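import Cfsg.Agent.OddHalf.D7.RowSL
import Cfsg.Agent.OddHalf.D7Out.SylOf
import Cfsg.Agent.OddHalf.D7Ex.TriE
import Cfsg.Agent.KFacts.SLRow.DomE

/-!
# Node D7, the families `E₆(q)`, `E₇(q)`, `E₈(q)` (helper158; `q = 2`: `TriE` of helper57, `SylOf` of helper875)

* `exTwo_of` : `RowSL.ExTwo M` from the Dynkin facts;
* `node_E6`, `node_E7`, `node_E8`.
-/

set_option autoImplicit false
set_option linter.unusedSectionVars false

namespace Cfsg.Agent.OddHalf.D7.RowE

open Cfsg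
open CoxeterSystem Cfsg.Agent.ChevalleyStructure.CoxeterGeom Cfsg.Agent.Tits.Roots Cfsg.Agent.Tits.Core
  Cfsg.Agent.Nodes.Reps Cfsg.Agent.Nodes.BNOf Cfsg.Agent.Nodes.Coroot Cfsg.Agent.KFacts.SLRow
  Cfsg.Agent.OddHalf.D7.Cases Cfsg.Agent.OddHalf.D7Out Cfsg.Agent.OddHalf.D7Ex Cfsg.Agent.OddHalf.SL.Index

universe u

/-- `ExTwo` from the Dynkin facts. -/
theorem exTwo_of {l k : ℕ} {M : CoxeterMatrix (Fin l)} (hl : 4 ≤ l) (f : Fin k ↪ Fin l) (j : Fin l) (κ : Fin k)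
    (hdom : ∀ [Finite M.Group] {A : Fin l → Fin l → ℤ} (h : IsCartan M A) {r : Fin l → ℤ},
      IsRoot M.toCoxeterSystem h r → (∀ i, 0 ≤ cpr M.toCoxeterSystem h (sr i) r) →
      Bf A (sr j) r = 1 ∧ ∀ i, i ≠ j → Bf A (sr i) r = 0)
    (fj : ∀ i, f i ≠ j) (hfull : ∀ b, b ≠ j → ∃ i, f i = b) (kj : M (f κ) j = 3) (nj : ∀ i, i ≠ κ → M (f i) j = 2)
    (hnb : ∀ i, ∃ i', M (f i) (f i') = 3)
    (haut : ∀ σ τ : Equiv.Perm (Fin k), (∀ i k, M (f (σ i)) (f (σ k)) = M (f i) (f k)) → σ κ = κ →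
      (∀ i k, M (f (τ i)) (f (τ k)) = M (f i) (f k)) → τ κ = κ → σ ≠ 1 → τ ≠ 1 → σ = τ) : RowSL.ExTwo.{u} M := by
  intro G _ hfin K A h T n X F _ _ _ e hW _ hM D Sy t v ρ T' g m z O C
  have := hfin
  have := hW
  obtain ⟨h1, h2⟩ := hdom h O.root O.dom
  have adj : ∀ a b, M a b = 3 → Bf A (sr a) (sr b) = -1 := fun a b hab => by
    rw [HasPTwo.bf_sr_sr]
    exact Hirr.cartan_adj h (by rw [M.symmetric]; exact hab)
  have nadj : ∀ a b, M a b = 2 → Bf A (sr a) (sr b) = 0 := fun a b hab => by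
    rw [HasPTwo.bf_sr_sr]
    exact Hirr.cartan_nadj h (by rw [M.symmetric]; exact hab)
  have N : TriComb.Nd M.toCoxeterSystem h f j κ ρ :=
    { hr := O.root
      dj := h1
      di := h2
      fj := fj
      kj := adj _ _ kj
      nj := fun i hi => nadj _ _ (nj i hi)
      rest := fun b hb h3 i => by
        obtain ⟨i', hi'⟩ := hfull b hb
        exact absurd hi' (h3 i') }
  exact TriE.exists_base (OutBase.dm D) N (SylOf.fl_of C) (SylOf.hs_of C) (by simpa using hl) hfull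
    (fun i => by
      obtain ⟨i', hi'⟩ := hnb i
      exact ⟨i', adj _ _ hi'⟩) haut O.zX O.z1 (SylOf.syl_of D O)

/-! ### `E₈` -/

def f8 : Fin 7 ↪ Fin 8 := ⟨Fin.castSucc, Fin.castSucc_injective 7⟩

def m8 (i j : Fin 7) : ℕ := CoxeterMatrix.E₈ (f8 i) (f8 j)

theorem aut8 {σ : Equiv.Perm (Fin 7)} (h : ∀ i k, m8 (σ i) (σ k) = m8 i k) (h6 : σ 6 = 6) : σ = 1 := by
  have s5 : σ 5 = 5 := by
    have e := h 5 6
    rw [h6] at e
    revert e
    generalize σ 5 = x
    revert x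
    decide
  have s4 : σ 4 = 4 := by
    have e := h 4 5
    have e' := σ.injective.ne (show (4 : Fin 7) ≠ 6 by decide)
    rw [s5] at e
    rw [h6] at e'
    revert e e'
    generalize σ 4 = x
    revert x
    decide
  have s3 : σ 3 = 3 := by
    have e := h 3 4
    have e' := σ.injective.ne (show (3 : Fin 7) ≠ 5 by decide)
    rw [s4] at e
    rw [s5] at e'
    revert e e'
    generalize σ 3 = x
    revert x
    decide
  have s20 : σ 2 = 2 ∧ σ 0 = 0 := by
    have e := h 2 3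
    have e' := σ.injective.ne (show (2 : Fin 7) ≠ 4 by decide)
    have e0 := h 0 2
    have e1 := h 0 3
    rw [s3] at e e1
    rw [s4] at e'
    revert e e' e0 e1
    generalize σ 2 = x
    generalize σ 0 = y
    revert x y
    decide
  obtain ⟨s2, s0⟩ := s20
  have s1 : σ 1 = 1 := by
    have e := h 1 3
    have e'2 := σ.injective.ne (show (1 : Fin 7) ≠ 2 by decide)
    have e'4 := σ.injective.ne (show (1 : Fin 7) ≠ 4 by decide)
    rw [s2] at e'2
    rw [s3] at e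
    rw [s4] at e'4
    revert e e'2 e'4
    generalize σ 1 = x
    revert x
    decide
  ext i
  fin_cases i
  · exact congrArg _ s0
  · exact congrArg _ s1
  · exact congrArg _ s2
  · exact congrArg _ s3
  · exact congrArg _ s4
  · exact congrArg _ s5
  · exact congrArg _ h6

theorem exTwo_E8 : RowSL.ExTwo.{u} CoxeterMatrix.E₈ := by
  refine exTwo_of (by norm_num) f8 7 6 (fun h r hr hd => DomE.dom_E8 _ h hr hd) (by decide) (by decide) rfl
    (by decide) (by decide) ?_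
  intro σ τ h1 h2 _ _ h3
  exact absurd (aut8 h1 h2) h3

/-! ### `E₇` -/

def f7 : Fin 6 ↪ Fin 7 := ⟨Fin.succ, Fin.succ_injective 6⟩

def m7 (i j : Fin 6) : ℕ := CoxeterMatrix.E₇ (f7 i) (f7 j)

theorem aut7 {σ : Equiv.Perm (Fin 6)} (h : ∀ i k, m7 (σ i) (σ k) = m7 i k) (s1 : σ 1 = 1) : σ = 1 := by
  have s2 : σ 2 = 2 := by
    have e := h 2 1
    rw [s1] at e
    revert e
    generalize σ 2 = x
    revert x
    decide
  have s34 : σ 3 = 3 ∧ σ 4 = 4 := by
    have e := h 3 2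
    have e' := σ.injective.ne (show (3 : Fin 6) ≠ 1 by decide)
    have e0 := h 4 3
    have e1 := h 4 2
    rw [s2] at e e1
    rw [s1] at e'
    revert e e' e0 e1
    generalize σ 3 = x
    generalize σ 4 = y
    revert x y
    decide
  obtain ⟨s3, s4⟩ := s34
  have s0 : σ 0 = 0 := by
    have e := h 0 2
    have e'2 := σ.injective.ne (show (0 : Fin 6) ≠ 1 by decide)
    have e'4 := σ.injective.ne (show (0 : Fin 6) ≠ 3 by decide)
    rw [s1] at e'2
    rw [s2] at e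
    rw [s3] at e'4
    revert e e'2 e'4
    generalize σ 0 = x
    revert x
    decide
  have s5 : σ 5 = 5 := by
    have e := h 5 4
    have e' := σ.injective.ne (show (5 : Fin 6) ≠ 3 by decide)
    rw [s3] at e'
    rw [s4] at e
    revert e e'
    generalize σ 5 = x
    revert x
    decide
  ext i
  fin_cases i
  · exact congrArg _ s0
  · exact congrArg _ s1
  · exact congrArg _ s2
  · exact congrArg _ s3
  · exact congrArg _ s4
  · exact congrArg _ s5

theorem exTwo_E7 : RowSL.ExTwo.{u} CoxeterMatrix.E₇ := by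
  refine exTwo_of (by norm_num) f7 0 1 (fun h r hr hd => DomE.dom_E7 _ h hr hd) (by decide) (by decide) rfl
    (by decide) (by decide) ?_
  intro σ τ h1 h2 _ _ h3
  exact absurd (aut7 h1 h2) h3

/-! ### `E₆` -/

def f6 : Fin 5 ↪ Fin 6 := ⟨![0, 2, 3, 4, 5], by decide⟩

def m6 (i j : Fin 5) : ℕ := CoxeterMatrix.E₆ (f6 i) (f6 j)

theorem aut6 {σ : Equiv.Perm (Fin 5)} (h : ∀ i k, m6 (σ i) (σ k) = m6 i k) (s2 : σ 2 = 2) (hne : σ ≠ 1) :
    σ 0 = 4 ∧ σ 1 = 3 ∧ σ 3 = 1 ∧ σ 4 = 0 := by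
  have s0 : (σ 1 = 1 ∧ σ 0 = 0) ∨ (σ 1 = 3 ∧ σ 0 = 4) := by
    have e := h 1 2
    have e0 := h 0 1
    have e1 := h 0 2
    rw [s2] at e e1
    revert e e0 e1
    generalize σ 1 = x
    generalize σ 0 = y
    revert x y
    decide
  have s4 : (σ 3 = 1 ∧ σ 4 = 0) ∨ (σ 3 = 3 ∧ σ 4 = 4) := by
    have e := h 3 2
    have e0 := h 4 3
    have e1 := h 4 2
    rw [s2] at e e1
    revert e e0 e1
    generalize σ 3 = x
    generalize σ 4 = y
    revert x y
    decide
  rcases s0 with ⟨s1, s0⟩ | ⟨s1, s0⟩ <;> rcases s4 with ⟨s3, s4⟩ | ⟨s3, s4⟩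
  · exact absurd (σ.injective (s1.trans s3.symm)) (by decide)
  · exfalso
    apply hne
    ext i
    fin_cases i
    · exact congrArg _ s0
    · exact congrArg _ s1
    · exact congrArg _ s2
    · exact congrArg _ s3
    · exact congrArg _ s4
  · exact ⟨s0, s1, s3, s4⟩
  · exact absurd (σ.injective (s1.trans s3.symm)) (by decide)

theorem exTwo_E6 : RowSL.ExTwo.{u} CoxeterMatrix.E₆ := by
  refine exTwo_of (by norm_num) f6 1 2 (fun h r hr hd => DomE.dom_E6 _ h hr hd) (by decide) (by decide) rfl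
    (by decide) (by decide) ?_
  intro σ τ h1 h2 h3 h4 h5 h6
  obtain ⟨a0, a1, a3, a4⟩ := aut6 h1 h2 h5
  obtain ⟨b0, b1, b3, b4⟩ := aut6 h3 h4 h6
  ext i
  fin_cases i
  · exact congrArg _ (a0.trans b0.symm)
  · exact congrArg _ (a1.trans b1.symm)
  · exact congrArg _ (h2.trans h4.symm)
  · exact congrArg _ (a3.trans b3.symm)
  · exact congrArg _ (a4.trans b4.symm)

/-! ### The nodes -/

/-- **Node D7 for the family `E₆(q)`.** -/
theorem node_E6 : Node.{u} @FamE6.{u} := RowSL.node_E6 exTwo_E6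

/-- **Node D7 for the family `E₇(q)`.** -/
theorem node_E7 : Node.{u} @FamE7.{u} := RowSL.node_E7 exTwo_E7

/-- **Node D7 for the family `E₈(q)`.** -/
theorem node_E8 : Node.{u} @FamE8.{u} := RowSL.node_E8 exTwo_E8

end Cfsg.Agent.OddHalf.D7.RowE
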