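import Cfsg.Agent.OddHalf.D7.Cases
import Cfsg.Agent.OddHalf.Front.FE
import Cfsg.Agent.KFacts.SLRow.Row
import Cfsg.Agent.KFacts.SLRow.Tab
import Cfsg.Agent.Schreier.ClassAll
import Cfsg.Agent.Schreier.ChevIso

/-!
# The simply laced rows of node D7: the starting position (helper158)

* `center_eq_bot` : a group with datum and coordinates has trivial centre;
* `sch_L`, `sch_OPlus`, `sch_E6`, `sch_E7`, `sch_E8` : the Schreier property of the families;
* `Pos` : everything that is known at the start: `Start K t v`, the datum `D` of `⊤ : Subgroup ↥K`, the coordinates;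
* `false_of` : `Ctx G`, `Std G K`, `Cyc K`, `IsSLC q M K`, `Sch K` and `Pos → False` for all data.
-/

set_option autoImplicit false
set_option linter.unusedSectionVars false

namespace Cfsg.Agent.OddHalf.D7.StartSL

open Cfsg
open CoxeterSystem Cfsg.Agent.ChevalleyStructure.CoxeterGeom Cfsg.Agent.Tits.Roots Cfsg.Agent.Tits.Core
  Cfsg.Agent.Nodes.Reps Cfsg.Agent.Nodes.BNOf Cfsg.Agent.Nodes.RGDLib Cfsg.Agent.KFacts Cfsg.Agent.KFacts.SLRow.Def
  Cfsg.Agent.KFacts.ChevTwo Cfsg.Agent.KFacts.SLRow.Diag Cfsg.Agent.KFacts.SLRow.Row Cfsg.Agent.OddHalf.Iface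
  Cfsg.Agent.OddHalf.D7.Cases Cfsg.Agent.OddHalf.Front.FE Cfsg.Agent.Schreier.Basic

universe u

/-! ### The centre -/

section

variable {I W Y F : Type*} [Fintype I] [DecidableEq I] [Group W] [Finite W] [Group Y] [Field F]
  {M : CoxeterMatrix I} {cs : CoxeterSystem M W} {A : I → I → ℤ} {h : IsCartan M A} {q : ℕ} {T : Subgroup Y}
  {n : I → Y} {X : (I → ℤ) → Subgroup Y} {e : (I → ℤ) → F → Y}

theorem center_eq_bot (D : Datum (⊤ : Subgroup Y) q cs h T n X) (S : Sys D.rgd e) : Subgroup.center Y = ⊥ := by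
  rw [eq_bot_iff]
  intro z hz
  have hzc : ∀ y, y * z = z * y := Subgroup.mem_center_iff.1 hz
  have h1 : z ∈ T := RgdSys.mem_T_of_norm S D.gen fun r _ => ⟨1, one_ne_zero, fun a => by
    rw [← hzc, mul_inv_cancel_right, one_mul]⟩
  exact Subgroup.mem_bot.2 (D.cent z h1 fun _ _ v _ => (hzc v).symm)

end

theorem center_eq_bot_of_isSLC {q l : ℕ} {M : CoxeterMatrix (Fin l)} {K' : Type u} [Group K'] (hK : IsSLC q M K') :
    Subgroup.center K' = ⊥ := by
  obtain ⟨A, h, T, n, X, F, _, _, _, e, hW, -, -, D, S⟩ := hK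
  exact center_eq_bot D S

/-! ### The Schreier property -/

theorem sch_L {K' : Type u} [Group K'] (hK : FamL K') : Sch K' := by
  obtain ⟨F, i1, i2, a, m, ha, hF, hm, h4, e⟩ := hK
  exact Cfsg.Agent.Schreier.ClassAll.sch_psl ⟨F, i1, i2, m, by omega, fun h => by omega, e⟩

theorem sch_OPlus {K' : Type u} [Group K'] (hK : FamOPlus' K') : Sch K' := by
  obtain ⟨F, i1, i2, a, m, ha, hF, hm, h4, e⟩ := hK
  exact Cfsg.Agent.Schreier.ClassAll.sch_pomegaPlus ⟨F, i1, i2, m, hm, e⟩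

theorem sch_E6 {K' : Type u} [Group K'] [Finite K'] [IsSimpleGroup K'] (hna : ¬ IsMulCommutative K')
    (hK : FamE6 K') : Sch K' := by
  obtain ⟨F, i1, i2, a, ha, hF, e⟩ := hK
  exact Cfsg.Agent.Schreier.ChevIso.e6 K' hna ⟨F, i1, i2, e⟩

theorem sch_E7 {K' : Type u} [Group K'] [Finite K'] [IsSimpleGroup K'] (hna : ¬ IsMulCommutative K')
    (hK : FamE7 K') : Sch K' := by
  obtain ⟨F, i1, i2, a, ha, hF, e⟩ := hK
  exact Cfsg.Agent.Schreier.ChevIso.e7 K' hna ⟨F, i1, i2, e⟩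

theorem sch_E8 {K' : Type u} [Group K'] [Finite K'] [IsSimpleGroup K'] (hna : ¬ IsMulCommutative K')
    (hK : FamE8 K') : Sch K' := by
  obtain ⟨F, i1, i2, a, ha, hF, e⟩ := hK
  exact Cfsg.Agent.Schreier.ChevIso.e8 K' hna ⟨F, i1, i2, e⟩

/-! ### The starting position -/

/-- The starting position is impossible for the groups with datum of diagram `M` over fields with `q` elements. -/
def Impossible (q : ℕ) {l : ℕ} (M : CoxeterMatrix (Fin l)) : Prop :=
  ∀ (G : Type u) [Group G] (_ : Finite G) (K : Subgroup G) (A : Fin l → Fin l → ℤ) (h : IsCartan M A)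
    (T : Subgroup ↥K) (n : Fin l → ↥K) (X : (Fin l → ℤ) → Subgroup ↥K) (F : Type) (_ : Field F) (_ : Finite F)
    (_ : CharP F 2) (e : (Fin l → ℤ) → F → ↥K) (_ : Finite M.Group) (_ : Nat.card F = q) (_ : DTwo M)
    (D : Datum (⊤ : Subgroup ↥K) q M.toCoxeterSystem h T n X) (_ : Sys D.rgd e) (_ : commutator G = ⊤)
    (_ : Sch ↥K) (_ : ∀ s ∈ T, ∀ t ∈ T, s * t = t * s) (t v : G) (_ : Start K t v), False

theorem false_of {G : Type u} [Group G] (C : Ctx G) {K : Subgroup G} (S : Std G K) (hcyc : Cyc K) {q l : ℕ}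
    {M : CoxeterMatrix (Fin l)} (hK : IsSLC q M ↥K) (hs : Sch ↥K) (hI : Impossible.{u} q M) : False := by
  have hfin := C.fin
  have hcen := center_eq_bot_of_isSLC hK
  obtain ⟨t, v, hst⟩ := exists_start C S hcyc hcen
  obtain ⟨A, h, T, n, X, F, i1, i2, i3, e, hW, hq, hM, D, Sy⟩ := hK
  exact hI G hfin K A h T n X F i1 i2 i3 e hW hq hM D Sy (commutator_eq_top C) hs
    (fun s hs t ht => SLRow.Tab.comm_T Sy D.cent hs ht) t v hst

theorem simple_of {G : Type u} [Group G] {K : Subgroup G} (S : Std G K) (hcen : Subgroup.center ↥K = ⊥) :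
    IsSimpleGroup ↥K ∧ ¬ IsMulCommutative ↥K := by
  have e : ↥K ⧸ Subgroup.center ↥K ≃* ↥K :=
    (QuotientGroup.quotientMulEquivOfEq hcen).trans QuotientGroup.quotientBot
  have h1 := S.simple
  have h2 := S.quo_na
  refine ⟨e.symm.isSimpleGroup, fun h3 => h2 ⟨⟨fun a b => ?_⟩⟩⟩
  apply e.injective
  rw [map_mul, map_mul]
  exact h3.1.1 _ _

/-! ### The nodes -/

open Cfsg.Agent.LieRecognition.BNCox (cA) in
theorem node_L (h : ∀ a n : ℕ, 1 ≤ a → 3 ≤ n → (n = 3 → 2 ≤ a) → Impossible.{u} (2 ^ a) (cA n)) :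
    Node.{u} @FamL.{u} := by
  intro G _ C K S hcyc hK
  obtain ⟨q, n, a, rfl, ha, hn, h3, hK'⟩ := row_L hK
  exact false_of C S hcyc hK' (sch_L hK) (h a n ha hn h3)

theorem node_OPlus (h : ∀ a n : ℕ, 1 ≤ a → 2 ≤ n → (n = 2 → 2 ≤ a) →
    Impossible.{u} (2 ^ a) (Cfsg.Agent.Nodes.TypeD.M n)) : Node.{u} @FamOPlus'.{u} := by
  intro G _ C K S hcyc hK
  obtain ⟨q, n, a, rfl, ha, hn, h3, hK'⟩ := row_OPlus hK
  exact false_of C S hcyc hK' (sch_OPlus hK) (h a n ha hn h3)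

theorem node_E6 (h : ∀ a : ℕ, 1 ≤ a → Impossible.{u} (2 ^ a) CoxeterMatrix.E₆) : Node.{u} @FamE6.{u} := by
  intro G _ C K S hcyc hK
  obtain ⟨q, a, rfl, ha, hK'⟩ := row_E6 hK
  have := C.fin
  obtain ⟨h1, h2⟩ := simple_of S (center_eq_bot_of_isSLC hK')
  exact false_of C S hcyc hK' (sch_E6 h2 hK) (h a ha)

theorem node_E7 (h : ∀ a : ℕ, 1 ≤ a → Impossible.{u} (2 ^ a) CoxeterMatrix.E₇) : Node.{u} @FamE7.{u} := by
  intro G _ C K S hcyc hK
  obtain ⟨q, a, rfl, ha, hK'⟩ := row_E7 hK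
  have := C.fin
  obtain ⟨h1, h2⟩ := simple_of S (center_eq_bot_of_isSLC hK')
  exact false_of C S hcyc hK' (sch_E7 h2 hK) (h a ha)

theorem node_E8 (h : ∀ a : ℕ, 1 ≤ a → Impossible.{u} (2 ^ a) CoxeterMatrix.E₈) : Node.{u} @FamE8.{u} := by
  intro G _ C K S hcyc hK
  obtain ⟨q, a, rfl, ha, hK'⟩ := row_E8 hK
  have := C.fin
  obtain ⟨h1, h2⟩ := simple_of S (center_eq_bot_of_isSLC hK')
  exact false_of C S hcyc hK' (sch_E8 h2 hK) (h a ha)

end Cfsg.Agent.OddHalf.D7.StartSL
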