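import Cfsg.Agent.OddHalf.D7.RowSL
import Cfsg.Agent.OddHalf.D7Out.RowA2

/-!
# Node D7, the family `L_n(q)` (helper158; `q = 2`: `RowA2` of helper875)

`node_L` : `Node @FamL`.
-/

set_option autoImplicit false
set_option linter.unusedSectionVars false

namespace Cfsg.Agent.OddHalf.D7.RowL

open Cfsg
open Cfsg.Agent.KFacts.SLRow.Row Cfsg.Agent.OddHalf.D7.Cases Cfsg.Agent.OddHalf.D7.StartSL

universe u

/-- **Node D7 for the family `L_n(q)`.** -/
theorem node_L : Node.{u} @FamL.{u} := by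
  intro G _ C K S hcyc hK
  have hs := sch_L hK
  obtain ⟨F, i1, i2, a, m, ha, hF, hm, h4, ⟨e⟩⟩ := hK
  have := charTwo_of_card hF
  obtain ⟨n, rfl⟩ : ∃ n, m = n + 1 := ⟨m - 1, by omega⟩
  have hc : Nat.card F = 2 ^ a := by rw [Nat.card_eq_fintype_card, hF]
  rcases Nat.lt_or_ge 1 a with h1 | h1
  · exact false_of C S hcyc ((isSLC_PSL (by omega) F).of_equiv e.symm) hs
      (RowSL.impossible_big (by rw [hc]; exact RowSL.two_lt_pow h1))
  · obtain rfl : a = 1 := le_antisymm h1 ha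
    have hn : 4 ≤ n := by
      rcases Nat.lt_or_ge n 4 with h5 | h5
      · have := h4 (by omega)
        omega
      · exact h5
    exact Cfsg.Agent.OddHalf.D7Out.RowA2.false_of C S hcyc hn F (by rw [hc, pow_one]) e.symm hs

end Cfsg.Agent.OddHalf.D7.RowL
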