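import Cfsg.Agent.OddHalf.D7.RowD
import Cfsg.Agent.OddHalf.D7Ex.NdD

/-!
# Node D7, the family `O⁺_{2m}(q)` (helper158, helper875, helper657, helper57)

`exTwo_D` : existence of the doubled root group for `D_{n+2}(2)`, `n ≥ 3`; `node_OPlus` : `Node @FamOPlus'`.
-/

set_option autoImplicit false
set_option linter.unusedSectionVars false

namespace Cfsg.Agent.OddHalf.D7.RowOPlus

open Cfsg
open CoxeterSystem Cfsg.Agent.ChevalleyStructure.CoxeterGeom Cfsg.Agent.Tits.Roots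
  Cfsg.Agent.OddHalf.D7.Cases Cfsg.Agent.OddHalf.D7Ex Cfsg.Agent.OddHalf.SL.Index Cfsg.Agent.OddHalf.D7Out

universe u

theorem exTwo_D {n : ℕ} (hn : 3 ≤ n) : RowSL.ExTwo.{u} (Cfsg.Agent.Nodes.TypeD.M n) := by
  refine RowD.exTwo_of (NdD.f n) 1 0 ⟨0, by omega⟩ (fun h _ hr hd => NdD.ndI hn _ h hr hd) (fun h i => ?_)
    (NdD.haut hn)
  obtain ⟨i', hi'⟩ := NdD.hnb_M hn i
  refine ⟨i', ?_⟩
  rw [HasPTwo.bf_sr_sr]
  exact Cfsg.Agent.KFacts.SLRow.Hirr.cartan_adj h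
    (by rw [(Cfsg.Agent.Nodes.TypeD.M n).symmetric]; exact hi')

/-- **Node D7 for the family `O⁺_{2m}(q)`.** -/
theorem node_OPlus : Node.{u} @FamOPlus'.{u} := RowSL.node_OPlus fun _ hn => exTwo_D hn

end Cfsg.Agent.OddHalf.D7.RowOPlus
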