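import Cfsg.Agent.OddHalf.D7.Final
import Cfsg.Agent.OddHalf.D7.RowL
import Cfsg.Agent.OddHalf.D7.RowE
import Cfsg.Agent.OddHalf.D7.RowOPlus
import Cfsg.Agent.OddHalf.D7.Uni.RowU
import Cfsg.Agent.OddHalf.Orth.NodeMinus
import Cfsg.Agent.OddHalf.D7Tw.Row
import Cfsg.Agent.OddHalf.D7F4.Row
import Cfsg.Agent.OddHalf.D7TwF4.Asm
import Cfsg.Agent.OddHalf.SpN.Row
import Cfsg.Agent.OddHalf.SpN.OutEnd
import Cfsg.Agent.OddHalf.SpTwoN.RowTwo
import Cfsg.Agent.OddHalf.D7Tits.Final

/-!
# ODD half: the node D7, with the landed rows plugged in (helper859, integrator; helper186: `Cases`, `Final`)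

`Given`: what is used from the other nodes. `Missing`: the row `Tits`, now proved (`missing`).
`d7`: the node.

Rows: `L` RowL (158, 875), `E6 E7 E8` RowE (158), `O+` RowOPlus (158, 875, 657, 57), `U` Uni.RowU (342 and others),
`O-` Orth.NodeMinus (166, 490), `2E6` D7Tw.Row (53, 756, 883), `Sp` SpN (q >= 4: 297, 859) and SpTwoN (q = 2: 529),
`F4` D7F4.Row (84, 588, 250), `2F4` D7TwF4.Asm (186, 544), `Tits` D7Tits.Final (853 and others, see there).
-/

set_option autoImplicit false

namespace Cfsg.Agent.OddHalf.D7.Plug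

open Subgroup Cfsg Cfsg.Agent.OddHalf.Iface Cfsg.Agent.OddHalf.D7.Cases

universe u

/-- the statements of other nodes -/
structure Given : Prop where
  /-- the Schreier property of the known simple groups: `Schreier.Assembly.known` (closed) -/
  sch : Cfsg.Agent.Schreier.Cases.SchFor.{u} @IsKnownSimple'
  /-- Gorenstein-Walter: S0483 (closed) -/
  gw : SylowSp4.Hyps.GW.{u}
  /-- case (M): `D8.Plug.noComp` -/
  noComp : Iface.Intr2.{u} → D8.Final.NoCompM.{u}
  /-- no intrinsic component of Lie type in odd characteristic (node NI) -/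
  ni : CaseM.NI.{u}
  /-- no standard subgroup with noncyclic centre -/
  intrNon : D7Tw.IntrNon.{u}
  /-- elementary abelian centres have order at most 4 -/
  multV : D7Tw.MultV.{u}

/-- `Given` from the other nodes; `M4`, `R`: the multipliers and the rows with `Z(K) ≠ 1` of node D4 -/
theorem given_of (sch : Cfsg.Agent.Schreier.Cases.SchFor.{u} @IsKnownSimple') (gw : SylowSp4.Hyps.GW.{u})
    (noComp : Iface.Intr2.{u} → D8.Final.NoCompM.{u}) (ni : CaseM.NI.{u}) (Kn : Main.Known.{u})
    (d5cover : D5cover.{u}) (u2 : U2.{u}) (M4 : D4.Cut.MultD4.{u}) (R : D4.Cut.RowsCov.{u}) : Given.{u} where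
  sch := sch
  gw := gw
  noComp := noComp
  ni := ni
  intrNon := D7Tw.intrNon_of Kn d5cover u2 M4 R
  multV := D7Tw.multV_of d5cover M4

/-- `Intr` from `Intr2` -/
theorem intr (I : Iface.Intr2.{u}) : Iface.Intr.{u} := fun G _ C M z hz hM hzM hCM => I G C M hM
  (by
    intro R
    have h1 : IsCyclic ↥(centralizer (M : Set G)) := by
      rw [hCM]
      infer_instance
    infer_instance)
  ⟨z, hz, hzM, by rw [hCM]; exact mem_zpowers z⟩

/-- the row `Tits` -/
structure Missing : Prop where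
  tits : Node.{u} @Lie.IsoTits.{u}

/-- the row `Sp_2n(2)`, `n ≥ 4` -/
theorem spTwo : SpN.Row.Two.{u} := fun _ _ C _ S hc _ _ _ _ hF hm ⟨e⟩ =>
  SpTwoN.RowTwo.false_of_psp C S hc hm hF e

/-- all rows -/
theorem rows (g : Given.{u}) (I : Iface.Intr2.{u}) (h : Missing.{u}) : Final.Rows.{u} where
  l := RowL.node_L
  u := Uni.RowU.node (g.noComp I)
  sp := SpN.Row.node_of SpN.Row.main spTwo
  oPlus := RowOPlus.node_OPlus
  oMinus := Orth.NodeMinus.node_minus
  f4 := D7F4.Row.node
  e6 := RowE.node_E6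
  e7 := RowE.node_E7
  e8 := RowE.node_E8
  te6 := D7Tw.Row.te6 (g.noComp I) g.sch g.gw (intr I) g.intrNon g.multV g.ni
  tf4 := D7TwF4.Asm.node
  tits := h.tits

/-- **the node D7** (as in `Main.Nodes.d7`) -/
theorem d7_of_missing (g : Given.{u}) (h : Missing.{u}) : Iface.Intr2.{u} → Iface.D7.{u} :=
  fun I => Final.d7_of_rows (rows g I h)

/-- nothing is missing -/
theorem missing : Missing.{u} := ⟨D7Tits.Final.node⟩

/-- **the node D7**, all rows proved -/
theorem d7 (g : Given.{u}) : Iface.Intr2.{u} → Iface.D7.{u} := d7_of_missing g missing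

end Cfsg.Agent.OddHalf.D7.Plug
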