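import Cfsg.Agent.OddHalf.D7.Cases

/-!
# Node D7 from its rows (helper186, integrator)

`Rows`: one node for each family of groups of Lie type in characteristic 2 (families of `D7/Cases.lean`).
`d7_of_rows : Rows → Iface.D7`. When a row is proved it is filled in here.
-/

set_option autoImplicit false

namespace Cfsg.Agent.OddHalf.D7.Final

open Cfsg Cfsg.Agent.OddHalf.Iface Cfsg.Agent.OddHalf.D7.Cases

universe u

/-- The rows of node D7. -/
structure Rows : Prop where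
  l : Node.{u} @FamL.{u}
  u : Node.{u} @FamU.{u}
  sp : Node.{u} @FamSp'.{u}
  oPlus : Node.{u} @FamOPlus'.{u}
  oMinus : Node.{u} @FamOMinus.{u}
  f4 : Node.{u} @FamF4'.{u}
  e6 : Node.{u} @FamE6.{u}
  e7 : Node.{u} @FamE7.{u}
  e8 : Node.{u} @FamE8.{u}
  te6 : Node.{u} @Fam2E6.{u}
  tf4 : Node.{u} @Fam2F4.{u}
  tits : Node.{u} @Lie.IsoTits.{u}

theorem d7_of_rows (R : Rows.{u}) : D7.{u} :=
  d7_of R.l R.u R.sp R.oPlus R.oMinus R.f4 R.e6 R.e7 R.e8 R.te6 R.tf4 R.tits

end Cfsg.Agent.OddHalf.D7.Final
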