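import Cfsg.Agent.OddHalf.D7.RowSL
import Cfsg.Agent.OddHalf.D7Out.SylOf
import Cfsg.Agent.OddHalf.D7Ex.DBaseOf
import Cfsg.Agent.OddHalf.D7Ex.KRD

/-!
# `ExTwo` for a diagram with one isolated node (helper875; `q = 2`: `Tri`, `KTwo` of helper57, `DLast`, `KRD` of
helper657)

* `exTwo_of` : `RowSL.ExTwo M` from the Dynkin facts.
-/

set_option autoImplicit false
set_option linter.unusedSectionVars false

namespace Cfsg.Agent.OddHalf.D7.RowD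

open Cfsg
open CoxeterSystem Cfsg.Agent.ChevalleyStructure.CoxeterGeom Cfsg.Agent.Tits.Roots Cfsg.Agent.Tits.Core
  Cfsg.Agent.Nodes.Reps Cfsg.Agent.Nodes.BNOf Cfsg.Agent.Nodes.Coroot Cfsg.Agent.KFacts.SLRow
  Cfsg.Agent.OddHalf.D7.Cases Cfsg.Agent.OddHalf.D7Out Cfsg.Agent.OddHalf.D7Ex Cfsg.Agent.OddHalf.SL.Index

universe u

/-- `ExTwo` from the Dynkin facts. -/
theorem exTwo_of {l k : ℕ} {M : CoxeterMatrix (Fin l)} (f : Fin k ↪ Fin l) (j o : Fin l) (κ : Fin k)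
    (hN : ∀ [Finite M.Group] {A : Fin l → Fin l → ℤ} (h : IsCartan M A) {r : Fin l → ℤ},
      IsRoot M.toCoxeterSystem h r → (∀ i, 0 ≤ cpr M.toCoxeterSystem h (sr i) r) →
      NdI.NdI M.toCoxeterSystem h f j κ r o)
    (hnb : ∀ {A : Fin l → Fin l → ℤ} (_ : IsCartan M A), ∀ i, ∃ i', Bf A (sr (f i)) (sr (f i')) = -1)
    (haut : ∀ σ τ : Equiv.Perm (Fin k), (∀ i k, M (f (σ i)) (f (σ k)) = M (f i) (f k)) → σ κ = κ →
      (∀ i k, M (f (τ i)) (f (τ k)) = M (f i) (f k)) → τ κ = κ → σ ≠ 1 → τ ≠ 1 → σ = τ) : RowSL.ExTwo.{u} M := by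
  intro G _ hfin K A h T n X F _ _ _ e hW _ hM D Sy t v ρ T' g m z O C
  have := hfin
  have := hW
  have N := hN h O.root O.dom
  have D' := OutBase.dm D
  have N' : KRD.Nodes M.toCoxeterSystem h f j κ ρ o := ⟨N.toNd, N.oj, N.of, N.full, N.jo⟩
  have HK := KRD.krD D' N' (SylOf.fl_of C) (SylOf.hs_of C) (hnb h)
  obtain ⟨V, B⟩ := DBaseOf.exists_baseG D' (SylOf.fl_of C) N HK haut O.zX O.z1 (SylOf.syl_of D O)
  obtain ⟨s, g', H⟩ := NdI.isoRt D.h4 D.h6 N (hnb h)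
  exact ⟨V, DLastOf.base0 D C B H⟩

end Cfsg.Agent.OddHalf.D7.RowD
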