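import Cfsg.Agent.OddHalf.D7.StartSL
import Cfsg.Agent.OddHalf.D7Out.GrSL
import Cfsg.Agent.OddHalf.D7Out.HasPTwo
import Cfsg.Agent.OddHalf.D7Ex.TorSys

/-!
# Node D7 for the simply laced families (helper158)

* `impossible_big` : `StartSL.Impossible q M` for `q > 2`, all simply laced `M` of rank at least `3`;
* `ExTwo M` : existence of the doubled root group (`MainSL.HasEx`) for `q = 2`;
* `impossible_two` : `q = 2` from `Path4 M` and `ExTwo M`;
* `node_L`, `node_OPlus`, `node_E6`, `node_E7`, `node_E8` : the nodes from `ExTwo`.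
-/

set_option autoImplicit false
set_option linter.unusedSectionVars false

namespace Cfsg.Agent.OddHalf.D7.RowSL

open Cfsg
open CoxeterSystem Cfsg.Agent.ChevalleyStructure.CoxeterGeom Cfsg.Agent.Tits.Roots Cfsg.Agent.Tits.Core
  Cfsg.Agent.Nodes.Reps Cfsg.Agent.Nodes.BNOf Cfsg.Agent.Nodes.RGDLib Cfsg.Agent.KFacts Cfsg.Agent.KFacts.SLRow.Def
  Cfsg.Agent.KFacts.ChevTwo Cfsg.Agent.KFacts.SLRow.Diag Cfsg.Agent.KFacts.SLRow.Row Cfsg.Agent.OddHalf.Iface
  Cfsg.Agent.OddHalf.D7.Cases Cfsg.Agent.OddHalf.Front.FE Cfsg.Agent.Schreier.Basic Cfsg.Agent.OddHalf.D7.StartSL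
  Cfsg.Agent.OddHalf.D7Out Cfsg.Agent.LieRecognition.BNCox

universe u

/-- **`q > 2`.** -/
theorem impossible_big {q l : ℕ} {M : CoxeterMatrix (Fin l)} (hq : 2 < q) : Impossible.{u} q M := by
  intro G _ hfin K A h T n X F _ hF _ e hW hc hM D Sy hcom hs hab t v hst
  have := hfin
  have := hF
  have := hW
  exact GrSL.false_of_big hcom hst hs D Sy hM hq (Or.inr fun ρ hρ _ =>
    Cfsg.Agent.OddHalf.D7Ex.TorSys.exists_tor D Sy hq hρ)

/-- Existence of the doubled root group for `q = 2`. -/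
def ExTwo {l : ℕ} (M : CoxeterMatrix (Fin l)) : Prop :=
  ∀ (G : Type u) [Group G] (_ : Finite G) (K : Subgroup G) (A : Fin l → Fin l → ℤ) (h : IsCartan M A)
    (T : Subgroup ↥K) (n : Fin l → ↥K) (X : (Fin l → ℤ) → Subgroup ↥K) (F : Type) (_ : Field F) (_ : Finite F)
    (_ : CharP F 2) (e : (Fin l → ℤ) → F → ↥K) (_ : Finite M.Group) (_ : Nat.card F = 2) (_ : DTwo M)
    (D : Datum (⊤ : Subgroup ↥K) 2 M.toCoxeterSystem h T n X) (_ : Sys D.rgd e) (t v : G),
    MainSL.HasEx D e t v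

/-- **`q = 2`** from the existence of the doubled root group. -/
theorem impossible_two {l : ℕ} {M : CoxeterMatrix (Fin l)} (hP : HasPTwo.Path4 M) (hE : ExTwo.{u} M) :
    Impossible.{u} 2 M := by
  intro G _ hfin K A h T n X F _ hF _ e hW hc hM D Sy hcom hs hab t v hst
  have := hfin
  have := hF
  have := hW
  exact GrSL.false_of_two hcom hst hs D Sy hM (HasPTwo.hasP_path4 D hP)
    (hE G hfin K A h T n X F _ hF inferInstance e hW hc hM D Sy t v)

theorem two_lt_pow {a : ℕ} (ha : 2 ≤ a) : 2 < 2 ^ a :=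
  calc 2 < 2 ^ 2 := by norm_num
    _ ≤ 2 ^ a := Nat.pow_le_pow_right (by norm_num) ha

/-- All `q`. -/
theorem impossible {l a : ℕ} {M : CoxeterMatrix (Fin l)} (ha : 1 ≤ a) (h : a = 1 → HasPTwo.Path4 M ∧ ExTwo.{u} M) :
    Impossible.{u} (2 ^ a) M := by
  rcases Nat.lt_or_ge 1 a with h1 | h1
  · exact impossible_big (two_lt_pow h1)
  · obtain rfl : a = 1 := le_antisymm h1 ha
    rw [pow_one]
    exact impossible_two (h rfl).1 (h rfl).2

theorem node_L (h : ∀ n : ℕ, 4 ≤ n → ExTwo.{u} (cA n)) : Node.{u} @FamL.{u} := by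
  refine StartSL.node_L fun a n ha hn h3 => impossible ha ?_
  rintro rfl
  have h4 : 4 ≤ n := by
    rcases Nat.lt_or_ge n 4 with h5 | h5
    · have := h3 (by omega); omega
    · exact h5
  exact ⟨HasPTwo.path4_A h4, h n h4⟩

theorem node_OPlus (h : ∀ n : ℕ, 3 ≤ n → ExTwo.{u} (Cfsg.Agent.Nodes.TypeD.M n)) : Node.{u} @FamOPlus'.{u} := by
  refine StartSL.node_OPlus fun a n ha hn h3 => impossible ha ?_
  rintro rfl
  have h4 : 3 ≤ n := by
    rcases Nat.lt_or_ge n 3 with h5 | h5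
    · have := h3 (by omega); omega
    · exact h5
  exact ⟨HasPTwo.path4_D h4, h n h4⟩

theorem node_E6 (h : ExTwo.{u} CoxeterMatrix.E₆) : Node.{u} @FamE6.{u} :=
  StartSL.node_E6 fun _ ha => impossible ha fun _ => ⟨HasPTwo.path4_E6, h⟩

theorem node_E7 (h : ExTwo.{u} CoxeterMatrix.E₇) : Node.{u} @FamE7.{u} :=
  StartSL.node_E7 fun _ ha => impossible ha fun _ => ⟨HasPTwo.path4_E7, h⟩

theorem node_E8 (h : ExTwo.{u} CoxeterMatrix.E₈) : Node.{u} @FamE8.{u} :=
  StartSL.node_E8 fun _ ha => impossible ha fun _ => ⟨HasPTwo.path4_E8, h⟩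

end Cfsg.Agent.OddHalf.D7.RowSL
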